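import Cfsg.Agent.H950.IMC.Gen
import Cfsg.Agent.H843.IMC.RowsA

/-!
# `IMC 3 Co1` and `IMC 5 Co1` (helper950)

* `imc3` : the alternating square of the 24-dimensional character of `Co0` is irreducible of degree 276;
* `imc5` : the permutation character on the 98280 pairs of minimal vectors is `1 + 299 + 17250 + 80730`; a Sylow
  5-subgroup contains an element of order 5 of `M24`, so the multiplicity of the trivial character in the symmetric
  square is at most 68, less than the number of orbits.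
-/

set_option autoImplicit false

namespace Cfsg.Agent.H950.IMC.CoFive

open Cfsg Cfsg.Agent.H33 Cfsg.Agent.H672.SporIM Cfsg.Agent.Characters.Core MulAction
open Cfsg.Agent.H419.LeechIrr Cfsg.Agent.SporadicStructure.Co2RankThree Cfsg.Agent.H419.LeechFix
open Cfsg.Agent.SporadicA.Co0Mono Cfsg.Agent.SporadicA.Co1Simple
open Cfsg.Agent.H419.Spor.Co1 (chi chi_one chi_neg psi)
open Cfsg.Agent.H419.Spor.Mathieu (M_mem C_mem)
open Cfsg.Agent.CoOneType.CoOneE (pr pr_surjective)
open Cfsg.Agent.H843.IMC.Co1B Cfsg.Agent.H843.IMC.Co1C Cfsg.Agent.H843.IMC.Co1D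
open Cfsg.Agent.H593.IMFrame (Sub perm frame)
open Cfsg.Agent.H625.SylConst
open scoped ComplexConjugate

theorem chi_rat (g : Co0) : ∃ q : ℚ, chi g = q := by
  refine ⟨(Cfsg.Agent.Co2Type.Mono.tr8 g : ℚ) / 8, ?_⟩
  show (Cfsg.Agent.Co2Type.Mono.tr8 g : ℂ) / 8 = _
  push_cast
  rfl

/-- **`IMC 3 Co1`** -/
theorem imc3 [Fact (Nat.Prime 3)] : IMC 3 Spor.Co1 := by
  have hfin : Finite Spor.Co1 := Cfsg.Agent.H419.Spor.Co1.finite_co1
  have := Cfsg.Agent.H419.Spor.Co1.finite_co0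
  obtain ⟨θ, hθ, hd⟩ := exists_276
  refine Gen.imc_of_alt_irr pr pr_surjective (by norm_num) (isCharacter_lchi (MonoidHom.id Co0)) chi_rat ?_ ?_ θ hθ ?_
  · have h := chi_one
    rw [chi] at h
    rw [h]
    norm_num
  · have h := chi_one
    rw [chi] at h
    rw [h]
    norm_num
  · rw [hd]
    norm_num

/-- The permutation character on the pairs of minimal vectors. -/
theorem exists_perm_decomp : ∃ ξ A B : IrrCharacter Spor.Co1, charDegree (A : Spor.Co1 → ℂ) = 17250 ∧
    charDegree (B : Spor.Co1 → ℂ) = 80730 ∧ (∀ g : Co0, om g = 1 + (ξ : Spor.Co1 → ℂ) (pr g)) ∧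
    ∀ z, perm Spor.Co1 X z = 1 + (ξ : Spor.Co1 → ℂ) z + (A : Spor.Co1 → ℂ) z + (B : Spor.Co1 → ℂ) z := by
  classical
  have hfin : Finite Spor.Co1 := Cfsg.Agent.H419.Spor.Co1.finite_co1
  have := Cfsg.Agent.H419.Spor.Co1.finite_co0
  have := Fintype.ofFinite Co0
  have := Fintype.ofFinite Spor.Co1
  have := Fintype.ofFinite X
  obtain ⟨b, hb⟩ := exists_sub
  obtain ⟨χ, D, hinj, hperm, hsum, hprod, hsq⟩ := frame hb
  obtain ⟨ξ, hξd, hξ⟩ := exists_299
  obtain ⟨θ, hθ, hθd⟩ := exists_276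
  have htrans := hb.trans
  have hne : Nonempty X := ⟨mk x0⟩
  have hperm' : perm Spor.Co1 X = ∑ i, (χ i : Spor.Co1 → ℂ) := by
    funext g
    rw [hperm, Finset.sum_apply]
  -- a nonzero inner product gives a constituent
  have hcon : ∀ η : Spor.Co1 → ℂ, IsIrrCharacter Spor.Co1 η → classInner η (perm Spor.Co1 X) ≠ 0 →
      ∃ i, (χ i : Spor.Co1 → ℂ) = η := by
    intro η hη h0
    by_contra hcon
    push Not at hcon
    apply h0
    have h1 : classInner (perm Spor.Co1 X) η = 0 := by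
      rw [hperm', classInner_sum_left, Finset.sum_eq_zero]
      intro i _
      exact classInner_irr_ne (χ i).2 hη (hcon i)
    rw [← classInner_conj_symm, h1, map_zero]
  have hone : classInner (1 : Spor.Co1 → ℂ) (perm Spor.Co1 X) = 1 := by
    have h1 := Cfsg.Agent.H713.Spor.RankThree.inner_pc_one (G := Spor.Co1) X
    change classInner (perm Spor.Co1 X) 1 = 1 at h1
    rw [← classInner_conj_symm, h1, map_one]
  obtain ⟨i, hi⟩ := hcon 1 isIrr_one (by rw [hone]; norm_num)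
  -- the inner product of the square with the permutation character
  obtain ⟨n, hn, hsumX⟩ := sum_X
  have hsq2 : classInner (1 + (ξ : Spor.Co1 → ℂ) + (θ : Spor.Co1 → ℂ)) (perm Spor.Co1 X) = n / Nat.card Co0 := by
    rw [← Cfsg.Agent.H693.Defl.classInner_comp_surj pr pr_surjective, classInner_def, div_eq_inv_mul, ← hsumX]
    congr 1
    refine Finset.sum_congr rfl fun g _ => ?_
    have h1 : perm Spor.Co1 X (pr g) = (Nat.card (fixedBy X g) : ℂ) := rfl
    rw [h1, Complex.conj_natCast]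
    congr 1
    show (1 : ℂ) + (ξ : Spor.Co1 → ℂ) (pr g) + (θ : Spor.Co1 → ℂ) (pr g) = chi g * chi g
    rw [← hξ, hθ, om, psi]
    ring
  have hcard : Nat.card Spor.Co1 = 4157776806543360000 := Cfsg.Agent.S0399.result.2
  have hi1 : charDegree (χ i : Spor.Co1 → ℂ) = 1 := by
    rw [hi]
    unfold charDegree
    simp
  have main : ∀ j, charDegree (χ j : Spor.Co1 → ℂ) = 299 ∨ charDegree (χ j : Spor.Co1 → ℂ) = 276 →
      (∃ a, charDegree (χ a : Spor.Co1 → ℂ) = 17250) ∧ ∃ a, charDegree (χ a : Spor.Co1 → ℂ) = 80730 := by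
    intro j hj
    exact dioph (fun i => charDegree (χ i : Spor.Co1 → ℂ)) D
      (fun i => by rw [← hcard]; exact Cfsg.Agent.Blocks.Knorr.charDegree_dvd (χ i).2) (i := i) (j := j)
      (by
        rintro rfl
        rw [hi1] at hj
        omega) hi1 hj (by rw [hsum, card_X]) (by
        rw [hprod, card_X]
        decide +kernel) hsq
  -- the fourth degree
  have huniv : ∀ j a c : Fin 4, i ≠ j → i ≠ a → i ≠ c → j ≠ a → j ≠ c → a ≠ c →
      (Finset.univ : Finset (Fin 4)) = {i, j, a, c} := by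
    intro j a c h1 h2 h3 h4 h5 h6
    symm
    rw [← Finset.card_eq_iff_eq_univ, Fintype.card_fin]
    rw [Finset.card_insert_of_notMem (by simp [h1, h2, h3]), Finset.card_insert_of_notMem (by simp [h4, h5]),
      Finset.card_insert_of_notMem (by simp [h6]), Finset.card_singleton]
  have main2 : ∀ j, charDegree (χ j : Spor.Co1 → ℂ) = 299 ∨ charDegree (χ j : Spor.Co1 → ℂ) = 276 →
      charDegree (χ j : Spor.Co1 → ℂ) = 299 ∧ ∃ a c, charDegree (χ a : Spor.Co1 → ℂ) = 17250 ∧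
        charDegree (χ c : Spor.Co1 → ℂ) = 80730 ∧ (Finset.univ : Finset (Fin 4)) = {i, j, a, c} ∧
        i ≠ j ∧ i ≠ a ∧ i ≠ c ∧ j ≠ a ∧ j ≠ c ∧ a ≠ c := by
    intro j hj
    obtain ⟨⟨a, ha⟩, ⟨c, hc⟩⟩ := main j hj
    have h1 : i ≠ j := by rintro rfl; omega
    have h2 : i ≠ a := by rintro rfl; omega
    have h3 : i ≠ c := by rintro rfl; omega
    have h4 : j ≠ a := by rintro rfl; omega
    have h5 : j ≠ c := by rintro rfl; omega
    have h6 : a ≠ c := by rintro rfl; omega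
    have hu := huniv j a c h1 h2 h3 h4 h5 h6
    refine ⟨?_, a, c, ha, hc, hu, h1, h2, h3, h4, h5, h6⟩
    have hs := hsum
    rw [hu, Finset.sum_insert (by simp [h1, h2, h3]), Finset.sum_insert (by simp [h4, h5]),
      Finset.sum_insert (by simp [h6]), Finset.sum_singleton, card_X] at hs
    omega
  have hj : ∃ j, (χ j : Spor.Co1 → ℂ) = ξ := by
    by_cases h1 : classInner (ξ : Spor.Co1 → ℂ) (perm Spor.Co1 X) = 0
    · exfalso
      by_cases h2 : classInner (θ : Spor.Co1 → ℂ) (perm Spor.Co1 X) = 0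
      · rw [classInner_add_left, classInner_add_left, hone, h1, h2, add_zero, add_zero] at hsq2
        have h3 : (Nat.card Co0 : ℂ) ≠ 0 := card_ne_zero_complex
        rw [eq_div_iff h3, one_mul] at hsq2
        have h4 : Nat.card Co0 = n := by exact_mod_cast hsq2
        have h5 : 0 < Nat.card Co0 := Nat.card_pos
        omega
      · obtain ⟨j, hj⟩ := hcon θ θ.2 h2
        have hd : charDegree (χ j : Spor.Co1 → ℂ) = 276 := by rw [hj, hθd]
        have := (main2 j (Or.inr hd)).1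
        omega
    · exact hcon ξ ξ.2 h1
  obtain ⟨j, hj⟩ := hj
  obtain ⟨-, a, c, ha, hc, hu, h1, h2, h3, h4, h5, h6⟩ := main2 j (Or.inl (by rw [hj, hξd]))
  refine ⟨ξ, χ a, χ c, ha, hc, hξ, fun z => ?_⟩
  rw [hperm, hu, Finset.sum_insert (by simp [h1, h2, h3]), Finset.sum_insert (by simp [h4, h5]),
    Finset.sum_insert (by simp [h6]), Finset.sum_singleton, hi, hj, Pi.one_apply]
  ring

/-- The element of order 5 of `M24`. -/
noncomputable def y5 : M24 := ⟨Cfsg.Agent.H419.Spor.Mathieu.M * cubeTwist, mul_mem M_mem C_mem⟩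

theorem y5_pow : y5 ^ 5 = 1 := by
  apply Subtype.ext
  show (Cfsg.Agent.H419.Spor.Mathieu.M * cubeTwist) ^ 5 = 1
  apply Equiv.ext
  decide +kernel

theorem card_F5 : (Finset.univ.filter fun q : GolayPt => (Cfsg.Agent.H419.Spor.Mathieu.M * cubeTwist) q = q).card = 4 := by decide +kernel

theorem fix_pow (k : ℕ) (hk : k ∈ [1, 2, 3, 4]) : ∀ q : GolayPt, ((Cfsg.Agent.H419.Spor.Mathieu.M * cubeTwist) ^ k) q = q ↔ (Cfsg.Agent.H419.Spor.Mathieu.M * cubeTwist) q = q := by
  fin_cases hk <;> decide +kernel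

theorem chi_y5 (k : ℕ) (hk : k ∈ [1, 2, 3, 4]) : chi (permCo0 (y5 ^ k)) = 4 := by
  classical
  rw [chi, lchi_perm (MonoidHom.id Co0) (g := permCo0 (y5 ^ k)) (σ := y5 ^ k) rfl]
  have h1 : Nat.card (MulAction.fixedBy GolayPt (y5 ^ k)) = 4 := by
    rw [← card_F5, Nat.card_eq_fintype_card, Fintype.card_subtype]
    congr 1
    ext q
    simp only [Finset.mem_filter, Finset.mem_univ, true_and]
    exact fix_pow k hk q
  rw [h1]
  norm_num

theorem om_y5 (k : ℕ) (hk : k ∈ [1, 2, 3, 4]) : om (permCo0 (y5 ^ k)) = 10 := by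
  have h2 : ∃ l ∈ [1, 2, 3, 4], y5 ^ k * y5 ^ k = y5 ^ l := by
    have h5 := y5_pow
    fin_cases hk
    · exact ⟨2, by simp, by group⟩
    · exact ⟨4, by simp, by group⟩
    · refine ⟨1, by simp, ?_⟩
      show y5 ^ 3 * y5 ^ 3 = y5 ^ 1
      rw [← pow_add, show 3 + 3 = 5 + 1 from rfl, pow_add, h5, one_mul]
    · refine ⟨3, by simp, ?_⟩
      show y5 ^ 4 * y5 ^ 4 = y5 ^ 3
      rw [← pow_add, show 4 + 4 = 5 + 3 from rfl, pow_add, h5, one_mul]
  obtain ⟨l, hl, h3⟩ := h2
  rw [om, ← map_mul, h3, chi_y5 k hk, chi_y5 l hl]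
  norm_num

/-- Sums over a cyclic group. -/
theorem sum_zpowers {A : Type*} [Group A] [Finite A] (h : A) [Fintype (Subgroup.zpowers h)] (f : A → ℂ) :
    ∑ z : Subgroup.zpowers h, f (z : A) = ∑ k ∈ Finset.range (orderOf h), f (h ^ k) := by
  classical
  symm
  refine Finset.sum_bij (fun k _ => (⟨h ^ k, Subgroup.npow_mem_zpowers h k⟩ : Subgroup.zpowers h)) ?_ ?_ ?_ ?_
  · intro k _
    exact Finset.mem_univ _
  · intro k hk l hl hkl
    have h1 : h ^ k = h ^ l := congrArg Subtype.val hkl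
    exact pow_injOn_Iio_orderOf (Finset.mem_range.1 hk) (Finset.mem_range.1 hl) h1
  · rintro ⟨z, hz⟩ _
    have h1 := (mem_zpowers_iff_mem_range_orderOf).1 hz
    obtain ⟨k, hk, rfl⟩ := Finset.mem_image.1 h1
    exact ⟨k, hk, rfl⟩
  · intro k _
    rfl

/-- **`IMC 5 Co1`** -/
theorem imc5 [Fact (Nat.Prime 5)] : IMC 5 Spor.Co1 := by
  classical
  have hfin : Finite Spor.Co1 := Cfsg.Agent.H419.Spor.Co1.finite_co1
  have := Fintype.ofFinite Spor.Co1
  have := Fintype.ofFinite X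
  obtain ⟨ξ, A, B, hA, hB, hξ, hperm⟩ := exists_perm_decomp
  let h : Spor.Co1 := pr (permCo0 y5)
  have hpow : ∀ k, h ^ k = pr (permCo0 (y5 ^ k)) := fun k => by rw [map_pow, map_pow]
  have h5 : h ^ 5 = 1 := by rw [hpow, y5_pow, map_one, map_one]
  let Ω : Spor.Co1 → ℂ := 1 + (ξ : Spor.Co1 → ℂ)
  have hΩ : IsCharacter Spor.Co1 Ω := isCharacter_add isCharacter_one (isIrr_isCharacter ξ.2)
  have hΩv : ∀ g : Co0, Ω (pr g) = om g := fun g => (hξ g).symm
  have hΩ1 : Ω 1 = 300 := by rw [← map_one Cfsg.Agent.CoOneType.CoOneE.pr, hΩv, om_one]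
  have hΩk : ∀ k ∈ [1, 2, 3, 4], Ω (h ^ k) = 10 := fun k hk => by rw [hpow, hΩv, om_y5 k hk]
  have hord : orderOf h = 5 := by
    refine orderOf_eq_prime h5 fun h1 => ?_
    have h2 := hΩk 1 (by simp)
    rw [pow_one, h1, hΩ1] at h2
    norm_num at h2
  have hKp : IsPGroup 5 (Subgroup.zpowers h) := by
    refine IsPGroup.of_card (n := 1) ?_
    rw [Nat.card_zpowers, hord, pow_one]
  obtain ⟨P, hP⟩ := hKp.exists_le_sylow
  have := Fintype.ofFinite (P : Subgroup Spor.Co1)
  have hcard : Nat.card Spor.Co1 = 4157776806543360000 := Cfsg.Agent.S0399.result.2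
  have hPc : Nat.card (P : Subgroup Spor.Co1) = 625 := by
    have hfac : (Nat.card Spor.Co1).factorization 5 = 4 := by
      rw [hcard]
      have h1 : (4157776806543360000 : ℕ) = 5 ^ 4 * 6652442890469376 := by norm_num
      rw [h1, Nat.factorization_mul (by norm_num) (by norm_num), Finsupp.add_apply,
        Nat.Prime.factorization_pow (by norm_num), Finsupp.single_eq_same,
        Nat.factorization_eq_zero_of_not_dvd (by norm_num)]
    rw [P.card_eq_multiplicity, hfac]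
    norm_num
  obtain ⟨a, b, hab, ha, hb⟩ := Gen.inner_mono (Subgroup.zpowers h) P hP hΩ
  have hb68 : b = 68 := by
    rw [sum_zpowers, hord, Nat.card_zpowers, hord, Finset.sum_range_succ, Finset.sum_range_succ, Finset.sum_range_succ,
      Finset.sum_range_succ, Finset.sum_range_one, hΩk 1 (by simp), hΩk 2 (by simp), hΩk 3 (by simp), hΩk 4 (by simp),
      pow_zero, hΩ1] at hb
    have h1 : ((340 : ℕ) : ℂ) = ((5 * b : ℕ) : ℂ) := by
      rw [← hb]
      norm_num
    have h2 : 340 = 5 * b := by exact_mod_cast h1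
    omega
  -- the number of fixed points
  let N : ℕ := ∑ z : (P : Subgroup Spor.Co1), Nat.card (fixedBy X (z : Spor.Co1))
  have hN : 98280 ≤ N := by
    have h1 : Nat.card (fixedBy X ((1 : (P : Subgroup Spor.Co1)) : Spor.Co1)) ≤ N :=
      Finset.single_le_sum (f := fun z : (P : Subgroup Spor.Co1) => Nat.card (fixedBy X (z : Spor.Co1)))
        (fun _ _ => Nat.zero_le _) (Finset.mem_univ 1)
    rwa [Subgroup.coe_one, fixedBy_one_eq_univ, Nat.card_coe_set_eq, Set.ncard_univ, card_X] at h1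
  have hNs : (N : ℂ) = ∑ z : (P : Subgroup Spor.Co1), Ω (z : Spor.Co1) +
      ∑ z : (P : Subgroup Spor.Co1), (A : Spor.Co1 → ℂ) (z : Spor.Co1) +
      ∑ z : (P : Subgroup Spor.Co1), (B : Spor.Co1 → ℂ) (z : Spor.Co1) := by
    rw [← Finset.sum_add_distrib, ← Finset.sum_add_distrib]
    push_cast [N]
    refine Finset.sum_congr rfl fun z _ => ?_
    exact hperm z
  by_cases hA0 : ∑ z : (P : Subgroup Spor.Co1), (A : Spor.Co1 → ℂ) (z : Spor.Co1) = 0
  · by_cases hB0 : ∑ z : (P : Subgroup Spor.Co1), (B : Spor.Co1 → ℂ) (z : Spor.Co1) = 0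
    · exfalso
      rw [hA0, hB0, add_zero, add_zero, ha, hPc] at hNs
      have h1 : N = 625 * a := by exact_mod_cast hNs
      omega
    · exact ⟨B, P, by rw [hB]; norm_num, by rw [fix_iff]; exact hB0⟩
  · exact ⟨A, P, by rw [hA]; norm_num, by rw [fix_iff]; exact hA0⟩

end Cfsg.Agent.H950.IMC.CoFive
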