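import Cfsg.Agent.H950.IMC.CoSeven
import Cfsg.Agent.H950.IMC.CoFive
import Cfsg.Agent.H94.IMCLoc
import Cfsg.Agent.H686.Four.Co1

/-!
# The row `Co1` of S4526 (helper950)
-/

set_option autoImplicit false

namespace Cfsg.Agent.H950.IMC.Co1

open Cfsg Cfsg.Agent.H625.SylConst Cfsg.Agent.H794.Imc
open Cfsg.Agent.H843.IMC.Rows (two')

universe u

/-- **The row `Co1` of S4526.** -/
theorem imc_co1 {S : Type u} [Group S] [Finite S] (h : Cfsg.Spor.IsoCo1 S) {p : ℕ} [hp : Fact p.Prime]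
    (hd : p ∣ Nat.card S) : IMC p S := by
  have him := fun hd' : p ∣ Nat.card S => Cfsg.Agent.H843.IMC.Rows.im_co1 h hd'
  have hloc := Cfsg.Agent.H686.Four.CoOne.loc_Co1 h
  obtain ⟨e⟩ := h
  have hcard : Nat.card S = 4157776806543360000 :=
    (Nat.card_congr e.toEquiv).trans Cfsg.Agent.S0399.result.2
  have hpr := hp.out
  have h5 : p ∣ 2 ^ 21 * 3 ^ 9 * 5 ^ 4 * 7 ^ 2 * 11 ^ 1 * 13 ^ 1 * 23 ^ 1 := by
    norm_num
    rwa [← hcard]
  have key : p = 2 ∨ p = 3 ∨ p = 5 ∨ p = 7 ∨ p = 11 ∨ p = 13 ∨ p = 23 := by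
    rcases hpr.dvd_mul.1 h5 with h5 | h5
    · rcases hpr.dvd_mul.1 h5 with h5 | h5
      · rcases hpr.dvd_mul.1 h5 with h5 | h5
        · rcases hpr.dvd_mul.1 h5 with h5 | h5
          · rcases hpr.dvd_mul.1 h5 with h5 | h5
            · rcases hpr.dvd_mul.1 h5 with h5 | h5
              · exact Or.inl (two' hpr (by norm_num) h5)
              · exact Or.inr (Or.inl (two' hpr (by norm_num) h5))
            · exact Or.inr (Or.inr (Or.inl (two' hpr (by norm_num) h5)))
          · exact Or.inr (Or.inr (Or.inr (Or.inl (two' hpr (by norm_num) h5))))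
        · exact Or.inr (Or.inr (Or.inr (Or.inr (Or.inl (two' hpr (by norm_num) h5)))))
      · exact Or.inr (Or.inr (Or.inr (Or.inr (Or.inr (Or.inl (two' hpr (by norm_num) h5))))))
    · exact Or.inr (Or.inr (Or.inr (Or.inr (Or.inr (Or.inr (two' hpr (by norm_num) h5))))))
  rcases key with rfl | rfl | rfl | rfl | rfl | rfl | rfl
  · exact Cfsg.Agent.H94.IMCLoc.imc_two_of_loc hloc
  · exact IMC.of_equiv e CoFive.imc3
  · exact IMC.of_equiv e CoFive.imc5
  · exact IMC.of_equiv e CoSeven.imc7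
  · exact imc_of_exact hd (by rw [hcard]; norm_num) (him hd)
  · exact imc_of_exact hd (by rw [hcard]; norm_num) (him hd)
  · exact imc_of_exact hd (by rw [hcard]; norm_num) (him hd)

end Cfsg.Agent.H950.IMC.Co1
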