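import Cfsg.Agent.H950.IMC.Gen
import Cfsg.Agent.H843.IMC.RowsA
import Cfsg.Agent.H843.IMC.LamAll

/-!
# `IMC 7 Co1` (helper950)

The character `W 4` of `Co1` (the fourth exterior power of the 24-dimensional representation of `Co0`) has only
constituents of degree divisible by 7 (helper843) and vanishes at an element of order 7.
-/

set_option autoImplicit false

namespace Cfsg.Agent.H950.IMC.CoSeven

open Cfsg Cfsg.Spor Cfsg.Agent.H33 Cfsg.Agent.H843.IMC Cfsg.Agent.H843.IMC.Syn Cfsg.Agent.H843.IMC.Lam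
open Cfsg.Agent.SporadicA.GolayBase Cfsg.Agent.SporadicStructure.M24El
open Cfsg.Agent.SporadicA.Co0Mono Cfsg.Agent.CoOneType.ClosingFacts Cfsg.Agent.H419.LeechIrr
open Cfsg.Agent.SporadicStructure.Co0Base Cfsg.Agent.CoOneType.SignFacts Cfsg.Agent.SporadicA.Co1Simple
open Cfsg.Agent.H843.IMC.LamCo1

/-- The exterior power of a permutation matrix without invariant `k`-sets. -/
theorem altk_perm_zero {I : Type*} [Fintype I] [DecidableEq I] {k : ℕ} (A : Matrix I I ℂ) (τ : I → I)
    (hA : ∀ i j, i ≠ τ j → A i j = 0)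
    (hmove : ∀ j : Fin k → I, Function.Injective j → ∀ s : Equiv.Perm (Fin k), ¬ ∀ t, j (s t) = τ (j t)) :
    altk k A = 0 := by
  rw [altk_eq, Finset.sum_eq_zero, mul_zero]
  intro i _
  by_cases hi : Function.Injective i
  · apply Finset.sum_eq_zero
    intro s _
    have h := hmove i hi s
    push Not at h
    obtain ⟨t, ht⟩ := h
    rw [Finset.prod_eq_zero (Finset.mem_univ t) (hA _ _ ht), mul_zero]
  · unfold Function.Injective at hi
    push Not at hi
    obtain ⟨a, b, hab, hne⟩ := hi
    let τ' := Equiv.swap a b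
    have hτ : i ∘ τ' = i := by
      funext t
      show i (Equiv.swap a b t) = i t
      by_cases h1 : t = a
      · rw [h1, Equiv.swap_apply_left, hab]
      · by_cases h2 : t = b
        · rw [h2, Equiv.swap_apply_right, hab]
        · rw [Equiv.swap_apply_of_ne_of_ne h1 h2]
    have h2 : ∑ σ : Equiv.Perm (Fin k), ((Equiv.Perm.sign σ : ℤ) : ℂ) * ∏ t, A (i (σ t)) (i t) =
        - ∑ σ : Equiv.Perm (Fin k), ((Equiv.Perm.sign σ : ℤ) : ℂ) * ∏ t, A (i (σ t)) (i t) := by
      conv_lhs => rw [← Equiv.sum_comp (Equiv.mulLeft τ')]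
      rw [← Finset.sum_neg_distrib]
      refine Finset.sum_congr rfl fun σ _ => ?_
      have h3 : ∀ t, i ((Equiv.mulLeft τ' σ) t) = i (σ t) := by
        intro t
        show i (τ' (σ t)) = i (σ t)
        exact congrFun hτ (σ t)
      simp only [h3]
      simp only [Equiv.coe_mulLeft, Equiv.Perm.sign_mul]
      rw [Equiv.Perm.sign_swap hne]
      push_cast
      ring
    exact self_eq_neg.1 h2

theorem matC_perm_ne (σ : M24) {j i : GolayPt} (h : j ≠ (σ : Equiv.Perm GolayPt) i) : matC (permCo0 σ) j i = 0 := by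
  have h1 : matC (permCo0 σ) j i = ((((permCo0 σ • e8 i : leechLattice) : GolayPt → ℤ) j : ℤ) : ℂ) / 8 := by
    rw [matC, Matrix.map_apply, Cfsg.Agent.SigZeroCo2.Lin.mat]
    simp
  rw [h1, perm_smul_e8, e8_coe, Pi.single_eq_of_ne h]
  simp

theorem W_zero {k : ℕ} (hk : Even k) {P : ℕ} (hP : ok P = true)
    (hchk : chk k 0 ((List.range 24).map (syn P ((List.range 12).map basisMask))) = true) :
    W k (mk (permCo0 (el P))) = 0 := by
  rw [W_mk hk]
  refine altk_perm_zero _ (fun p => (el P : Equiv.Perm GolayPt) p) (fun i j h => matC_perm_ne _ h) ?_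
  intro j hj s hs
  obtain ⟨m, -, hne⟩ := exists_moved hP hchk hj
  apply hne
  rw [← Equiv.sum_comp s (fun t => word m (j t))]
  refine Finset.sum_congr rfl fun t _ => ?_
  rw [hs t]
  rfl

theorem W_four_one : W 4 1 = ((7 * 1518 : ℕ) : ℂ) := by
  classical
  rw [LamAll.W_one 4 (by decide), Finset.sum_boole]
  have h1 : (Finset.univ.filter fun i : Fin 4 → GolayPt => Function.Injective i).card =
      Fintype.card (Fin 4 ↪ GolayPt) := by
    rw [← Fintype.card_subtype]
    exact Fintype.card_congr (Equiv.subtypeInjectiveEquivEmbedding (Fin 4) GolayPt)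
  have h24 : Fintype.card GolayPt = 24 := by decide
  rw [h1, Fintype.card_embedding_eq, Fintype.card_fin, h24]
  norm_num [Nat.descFactorial, Nat.factorial]

theorem imc7 [Fact (Nat.Prime 7)] : Cfsg.Agent.H625.SylConst.IMC 7 Co1 := by
  classical
  have hfin : Finite Co1 := Cfsg.Agent.H419.Spor.Co1.finite_co1
  have := Fintype.ofFinite Co1
  have hcard : Nat.card Spor.Co1 = 4157776806543360000 := Cfsg.Agent.S0399.result.2
  have h4 : Even 4 := by decide
  have hord : ∃ k : ℕ, orderOf (mk (permCo0 (el P7)) : Co1) = 7 ^ k := by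
    have h1 : (mk (permCo0 (el P7)) : Co1) ^ 7 ^ 1 = 1 := by
      rw [pow_one]
      have h2 : ∀ n : ℕ, (mk (permCo0 (el P7)) : Co1) ^ n = mk (permCo0 (el P7 ^ n)) := by
        intro n
        induction n with
        | zero => rw [pow_zero, pow_zero, map_one]; rfl
        | succ n ih => rw [pow_succ, ih, pow_succ, map_mul, mk_mul]
      rw [h2, el_pow_eq_one ok7 pow7, map_one]
      rfl
    obtain ⟨k, -, hk⟩ := (Nat.dvd_prime_pow (by norm_num : Nat.Prime 7)).1 (orderOf_dvd_of_pow_eq_one h1)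
    exact ⟨k, hk⟩
  have hfac : (Nat.card Co1).factorization 7 = 2 := by
    rw [hcard]
    have h1 : (4157776806543360000 : ℕ) = 7 ^ 2 * 84852587888640000 := by norm_num
    rw [h1, Nat.factorization_mul (by norm_num) (by norm_num), Finsupp.add_apply,
      Nat.Prime.factorization_pow (by norm_num), Finsupp.single_eq_same,
      Nat.factorization_eq_zero_of_not_dvd (by norm_num)]
  exact Gen.imc_of_char_zero (isCharacter_W h4) (fun ψ hψ => LamAll.all_co1 h4 ok7 (el_pow_eq_one ok7 pow7) chk7 ψ hψ)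
    hord (Gen.not_dvd_index_of_sq hfac hord) (W_zero h4 ok7 chk7) W_four_one (by norm_num)

end Cfsg.Agent.H950.IMC.CoSeven
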