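import Cfsg.Agent.H794.ImcTools
import Cfsg.Agent.Blocks.LocalRing
import Cfsg.Agent.Characters.GaloisBasic
import Cfsg.Agent.PermutationGroups.Subdegree

/-!
# `IMC p G` from characters whose constituents have degrees divisible by `p` (helper950)

* `imc_of_char` : the sum of `W` over a Sylow subgroup does not vanish;
* `imc_of_char_zero` : `W x = 0`, `W 1 = p * d`, `p ∤ d`, `x` a `p`-element with class size prime to `p`;
* `imc_of_alt`, `imc_of_alt_irr` : `p` odd, the alternating square of a rational character.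
-/

set_option autoImplicit false

open Cfsg
open scoped ComplexConjugate

namespace Cfsg.Agent.H950.IMC.Gen

open Cfsg.Agent.H625.SylConst Cfsg.Agent.H794.Imc Cfsg.Agent.Characters.Core

universe u

variable {G : Type u} [Group G] [Finite G] {p : ℕ} [hp : Fact p.Prime]

theorem inner_comb [Fintype G] [Fintype (IrrCharacter G)] (m : IrrCharacter G → ℕ) (ψ : IrrCharacter G) :
    classInner (∑ χ : IrrCharacter G, m χ • (χ : G → ℂ)) (ψ : G → ℂ) = m ψ :=
  classInner_sum_nsmul_irr m ψ

/-- **A character all of whose constituents have degree divisible by `p`, with a vector fixed by a Sylow subgroup.** -/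
theorem imc_of_char [Fintype G] {W : G → ℂ} (hW : IsCharacter G W)
    (hall : ∀ ψ : IrrCharacter G, classInner W ψ ≠ 0 → p ∣ charDegree (ψ : G → ℂ)) (P : Sylow p G)
    (hfix : Fix (P : Subgroup G) W) : IMC p G := by
  classical
  have : Finite (IrrCharacter G) := finite_irr
  have := Fintype.ofFinite (IrrCharacter G)
  have := Fintype.ofFinite (P : Subgroup G)
  obtain ⟨m, hm⟩ := exists_nat_comb hW
  rw [fix_iff] at hfix
  have h1 : ∑ z : (P : Subgroup G), W (z : G) =
      ∑ χ : IrrCharacter G, (m χ : ℂ) * ∑ z : (P : Subgroup G), (χ : G → ℂ) (z : G) := by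
    simp_rw [Finset.mul_sum]
    rw [Finset.sum_comm]
    refine Finset.sum_congr rfl fun z _ => ?_
    rw [hm]
    simp [Finset.sum_apply]
  rw [h1] at hfix
  obtain ⟨χ, -, hχ⟩ := Finset.exists_ne_zero_of_sum_ne_zero hfix
  refine ⟨χ, P, hall χ ?_, ?_⟩
  · rw [hm, inner_comb]
    exact left_ne_zero_of_mul hχ
  · rw [fix_iff]
    exact right_ne_zero_of_mul hχ

/-- **A character all of whose constituents have degree divisible by `p` and which vanishes at a `p`-central
element, of degree not divisible by `p ^ 2`.** -/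
theorem imc_of_char_zero [Fintype G] {W : G → ℂ} (hW : IsCharacter G W)
    (hall : ∀ ψ : IrrCharacter G, classInner W ψ ≠ 0 → p ∣ charDegree (ψ : G → ℂ)) {x : G}
    (hx : ∃ k : ℕ, orderOf x = p ^ k) (hc : ¬ p ∣ (Subgroup.centralizer ({x} : Set G)).index)
    (h0 : W x = 0) {d : ℕ} (h1 : W 1 = ((p * d : ℕ) : ℂ)) (hd : ¬ p ∣ d) : IMC p G := by
  classical
  have : Finite (IrrCharacter G) := finite_irr
  have := Fintype.ofFinite (IrrCharacter G)
  by_contra hcon
  obtain ⟨M, hM⟩ := Cfsg.Agent.Blocks.ExistsModular.exists_isPModular hp.out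
  have hp0 : (p : ℂ) ≠ 0 := by exact_mod_cast hp.out.ne_zero
  obtain ⟨m, hm⟩ := exists_nat_comb hW
  have key : ∀ ψ : IrrCharacter G, m ψ ≠ 0 →
      MemLocalIdeal M (((ψ : G → ℂ) x - (ψ : G → ℂ) 1) / p) := by
    intro ψ hψ
    have h2 : p ∣ charDegree (ψ : G → ℂ) := hall ψ (by
      rw [hm, inner_comb]
      exact_mod_cast hψ)
    obtain ⟨e, he⟩ := h2
    have h3 : MemLocalIdeal M (Cfsg.centralChar (ψ : G → ℂ) x -
        ((Subgroup.centralizer ({x} : Set G)).index : ℂ)) := by
      by_contra h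
      exact hcon (imc_of_ne hM ψ hx h)
    have h4 := isIrr_apply_one_ne_zero ψ.2
    have h5 : (ψ : G → ℂ) 1 = (p : ℂ) * e := by
      rw [Cfsg.Agent.Blocks.Basic.irr_one_eq_charDegree ψ.2, he]
      push_cast
      ring
    have hidx : ((Subgroup.centralizer ({x} : Set G)).index : ℂ) ≠ 0 := by
      exact_mod_cast Subgroup.index_ne_zero_of_finite
    have h6 : ((ψ : G → ℂ) x - (ψ : G → ℂ) 1) / p = (Cfsg.centralChar (ψ : G → ℂ) x -
        ((Subgroup.centralizer ({x} : Set G)).index : ℂ)) *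
        ((e : ℂ) * ((Subgroup.centralizer ({x} : Set G)).index : ℂ)⁻¹) := by
      rw [Cfsg.Agent.Blocks.Basic.centralChar_def]
      rw [h5] at h4 ⊢
      have h7 : (e : ℂ) ≠ 0 := right_ne_zero_of_mul h4
      field_simp
    rw [h6]
    have hP : M.IsPrime := hM.2.1.isPrime
    exact Cfsg.Agent.Blocks.LocalRing.memLocalIdeal_mul_right hM h3
      (Cfsg.Agent.Blocks.LocalRing.memLocalRing_mul hM (Cfsg.Agent.Blocks.LocalRing.memLocalRing_natCast hM e)
        (Cfsg.Agent.Blocks.Local.memLocalRing_inv_natCast hM hc))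
  have hsum : (W x - W 1) / p = ∑ ψ : IrrCharacter G, (m ψ : ℂ) * (((ψ : G → ℂ) x - (ψ : G → ℂ) 1) / p) := by
    have hv : ∀ g : G, W g = ∑ ψ : IrrCharacter G, (m ψ : ℂ) * (ψ : G → ℂ) g := by
      intro g
      rw [hm]
      simp [Finset.sum_apply]
    rw [hv, hv, ← Finset.sum_sub_distrib, Finset.sum_div]
    exact Finset.sum_congr rfl fun ψ _ => by ring
  have h2 : MemLocalIdeal M ((W x - W 1) / p) := by
    rw [hsum]
    refine Cfsg.Agent.Blocks.LocalRing.memLocalIdeal_sum hM _ _ fun ψ _ => ?_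
    by_cases h : m ψ = 0
    · rw [h, Nat.cast_zero, zero_mul]
      exact Cfsg.Agent.Blocks.LocalRing.memLocalIdeal_zero hM
    · exact Cfsg.Agent.Blocks.LocalRing.memLocalIdeal_mul_left hM
        (Cfsg.Agent.Blocks.LocalRing.memLocalRing_natCast hM _) (key ψ h)
  have h3 : (W x - W 1) / p = -(d : ℂ) := by
    rw [h0, h1]
    push_cast
    field_simp
    ring
  rw [h3, Cfsg.Agent.Blocks.LocalRing.memLocalIdeal_neg_iff,
    Cfsg.Agent.Blocks.LocalRing.memLocalIdeal_natCast_iff hM] at h2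
  exact hd h2

/-- in a group with Sylow `p`-subgroups of order `p ^ 2` the `p`-elements have class sizes prime to `p` -/
theorem not_dvd_index_of_sq (hcard : (Nat.card G).factorization p = 2) {x : G}
    (hx : ∃ k : ℕ, orderOf x = p ^ k) : ¬ p ∣ (Subgroup.centralizer ({x} : Set G)).index := by
  classical
  obtain ⟨k, hk⟩ := hx
  have hz : IsPGroup p (Subgroup.zpowers x) := by
    refine IsPGroup.of_card (n := k) ?_
    rw [Nat.card_zpowers, hk]
  obtain ⟨P, hP⟩ := hz.exists_le_sylow
  have hPc : Nat.card (P : Subgroup G) = p ^ 2 := by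
    rw [P.card_eq_multiplicity, hcard]
  have hcomm : IsMulCommutative (P : Subgroup G) := IsPGroup.isMulCommutative_of_card_eq_prime_sq hPc
  have hle : (P : Subgroup G) ≤ Subgroup.centralizer ({x} : Set G) := by
    intro y hy
    rw [Subgroup.mem_centralizer_singleton_iff]
    have hx' : x ∈ (P : Subgroup G) := hP (Subgroup.mem_zpowers x)
    have h := hcomm.is_comm.comm ⟨x, hx'⟩ ⟨y, hy⟩
    have h' := congrArg Subtype.val h
    first
      | exact h'
      | exact h'.symm
  intro hdvd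
  have h1 := Subgroup.relIndex_mul_index hle
  have h2 : p ∣ (P : Subgroup G).index := by
    rw [← h1]
    exact Dvd.dvd.mul_left hdvd _
  exact P.not_dvd_index h2

/-- The sum over the image of a subgroup. -/
theorem sum_map {G : Type*} [Group G] {H : Type*} [Group H] (f : G →* H) (P : Subgroup G) [Fintype P]
    [Fintype (P.map f)] (χ : H → ℂ) :
    ∑ z : P, χ (f (z : G)) = (Nat.card (f.subgroupMap P).ker : ℂ) * ∑ w : P.map f, χ (w : H) := by
  classical
  let g : P →* P.map f := f.subgroupMap P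
  have hg : Function.Surjective g := f.subgroupMap_surjective P
  have h2 : ∀ w : P.map f, (Finset.univ.filter fun z : P => g z = w).card = Nat.card g.ker := by
    intro w
    obtain ⟨z₀, hz₀⟩ := hg w
    rw [← Fintype.card_subtype, ← Nat.card_eq_fintype_card]
    symm
    refine Nat.card_congr ⟨fun k => ⟨z₀ * k, by rw [map_mul, k.2, mul_one, hz₀]⟩,
      fun z => ⟨z₀⁻¹ * z, by rw [MonoidHom.mem_ker, map_mul, map_inv, z.2, hz₀, inv_mul_cancel]⟩, ?_, ?_⟩
    · intro k; simp
    · intro z; simp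
  have h3 : ∑ z : P, χ (f (z : G)) = ∑ w : P.map f, ∑ z ∈ Finset.univ.filter (fun z : P => g z = w),
      χ (f (z : G)) := by
    rw [Finset.sum_fiberwise]
  rw [h3, Finset.mul_sum]
  refine Finset.sum_congr rfl fun w _ => ?_
  change _ = (Nat.card g.ker : ℂ) * _
  rw [← h2 w, ← nsmul_eq_mul, ← Finset.sum_const]
  refine Finset.sum_congr rfl fun z hz => ?_
  have h4 : g z = w := (Finset.mem_filter.1 hz).2
  rw [← h4]
  rfl

/-- The image of a Sylow subgroup. -/
theorem fix_map {G : Type*} [Group G] [Finite G] {H : Type*} [Group H] (f : G →* H) (P : Subgroup G)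
    {χ : H → ℂ} (h : Fix P (χ ∘ f)) : Fix (P.map f) χ := by
  classical
  have := Fintype.ofFinite P
  have : Finite (P.map f) := Finite.of_surjective (fun x : P => (⟨f x, Subgroup.mem_map_of_mem f x.2⟩ : P.map f))
    (by rintro ⟨_, x, hx, rfl⟩; exact ⟨⟨x, hx⟩, rfl⟩)
  have := Fintype.ofFinite (P.map f)
  rw [fix_iff] at h ⊢
  intro h0
  apply h
  have h1 := sum_map f P χ
  rw [h0, mul_zero] at h1
  exact h1

/-- **The alternating square of a rational character restricted to a Sylow `p`-subgroup, `p` odd.** -/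
theorem fix_alt {A : Type*} [Group A] [Finite A] (P : Sylow p A) (hp2 : p ≠ 2) {χ : A → ℂ} (hχ : IsCharacter A χ)
    (hq : ∀ g, ∃ q : ℚ, χ g = q) (h0 : χ 1 ≠ 0) (h1 : χ 1 ≠ 1) :
    Fix (P : Subgroup A) (fun g => (χ g ^ 2 - χ (g * g)) / 2) := by
  classical
  have := Fintype.ofFinite (P : Subgroup A)
  rw [fix_iff]
  have hint : ∀ g, ∃ a : ℤ, χ g = a := fun g => Cfsg.Agent.Characters.GaloisBasic.exists_int_of_rat hχ g (hq g)
  choose a ha using hint
  have hcop : (Nat.card (P : Subgroup A)).Coprime 2 := by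
    obtain ⟨n, hn⟩ := IsPGroup.iff_card.1 P.isPGroup'
    rw [hn]
    exact Nat.Coprime.pow_left n ((Nat.coprime_primes hp.out Nat.prime_two).2 hp2)
  have h2 : ∑ z : (P : Subgroup A), χ ((z : A) * (z : A)) = ∑ z : (P : Subgroup A), χ (z : A) := by
    rw [← Equiv.sum_comp (powCoprime hcop) (fun z : (P : Subgroup A) => χ (z : A))]
    refine Finset.sum_congr rfl fun z _ => ?_
    rw [powCoprime_apply, pow_two]
    rfl
  have h3 : ∑ z : (P : Subgroup A), (χ (z : A) ^ 2 - χ ((z : A) * (z : A))) / 2 =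
      ((∑ z : (P : Subgroup A), (a z ^ 2 - a z) : ℤ) : ℂ) / 2 := by
    rw [← Finset.sum_div, Finset.sum_sub_distrib, h2, ← Finset.sum_sub_distrib]
    push_cast
    congr 1
    exact Finset.sum_congr rfl fun z _ => by rw [ha]
  rw [h3]
  have h4 : ∀ n : ℤ, 0 ≤ n ^ 2 - n := by
    intro n
    rcases le_or_gt n 0 with h | h
    · nlinarith
    · nlinarith
  have h5 : 0 < ∑ z : (P : Subgroup A), (a z ^ 2 - a z) := by
    refine Finset.sum_pos' (fun z _ => h4 _) ⟨1, Finset.mem_univ _, ?_⟩
    have h6 : a 1 ≠ 0 := by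
      intro h
      apply h0
      rw [ha, h, Int.cast_zero]
    have h7 : a 1 ≠ 1 := by
      intro h
      apply h1
      rw [ha, h, Int.cast_one]
    rw [Subgroup.coe_one]
    rcases lt_or_gt_of_ne h6 with h | h
    · nlinarith
    · have h8 : 2 ≤ a 1 := by omega
      nlinarith
  intro h6
  rw [div_eq_zero_iff] at h6
  rcases h6 with h6 | h6
  · have h7 : ∑ z : (P : Subgroup A), (a z ^ 2 - a z) = 0 := by exact_mod_cast h6
    omega
  · norm_num at h6

/-- **`IMC p G`, `p` odd, from the alternating square `W` of a rational character (of a covering group).** -/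
theorem imc_of_alt [Fintype G] {A : Type*} [Group A] [Finite A] (f : A →* G) (hf : Function.Surjective f)
    (hp2 : p ≠ 2) {χ : A → ℂ} (hχ : IsCharacter A χ) (hq : ∀ g, ∃ q : ℚ, χ g = q) (h0 : χ 1 ≠ 0) (h1 : χ 1 ≠ 1)
    {W : G → ℂ} (hW : IsCharacter G W) (hWf : ∀ g, W (f g) = (χ g ^ 2 - χ (g * g)) / 2)
    (hall : ∀ ψ : IrrCharacter G, classInner W ψ ≠ 0 → p ∣ charDegree (ψ : G → ℂ)) : IMC p G := by
  obtain ⟨P⟩ : Nonempty (Sylow p A) := inferInstance
  refine imc_of_char hW hall (P.mapSurjective hf) ?_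
  have h : Fix ((P : Subgroup A).map f) W := by
    apply fix_map
    have h2 : W ∘ f = fun g => (χ g ^ 2 - χ (g * g)) / 2 := by
      funext g
      exact hWf g
    rw [h2]
    exact fix_alt P hp2 hχ hq h0 h1
  exact h

/-- the version for an irreducible alternating square -/
theorem imc_of_alt_irr {A : Type*} [Group A] [Finite A] (f : A →* G) (hf : Function.Surjective f)
    (hp2 : p ≠ 2) {χ : A → ℂ} (hχ : IsCharacter A χ) (hq : ∀ g, ∃ q : ℚ, χ g = q) (h0 : χ 1 ≠ 0) (h1 : χ 1 ≠ 1)
    (θ : IrrCharacter G) (hθ : ∀ g, (θ : G → ℂ) (f g) = (χ g ^ 2 - χ (g * g)) / 2)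
    (hdvd : p ∣ charDegree (θ : G → ℂ)) : IMC p G := by
  obtain ⟨P⟩ : Nonempty (Sylow p A) := inferInstance
  refine ⟨θ, P.mapSurjective hf, hdvd, ?_⟩
  have h : Fix ((P : Subgroup A).map f) (θ : G → ℂ) := by
    apply fix_map
    have h2 : (θ : G → ℂ) ∘ f = fun g => (χ g ^ 2 - χ (g * g)) / 2 := by
      funext g
      exact hθ g
    rw [h2]
    exact fix_alt P hp2 hχ hq h0 h1
  exact h

/-- The multiplicity of the trivial character grows when the subgroup gets smaller. -/
theorem inner_mono {A : Type*} [Group A] (K P : Subgroup A) [Fintype K] [Fintype P] (hKP : K ≤ P) {Ω : A → ℂ}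
    (hΩ : IsCharacter A Ω) : ∃ a b : ℕ, a ≤ b ∧ ∑ z : P, Ω (z : A) = (Nat.card P * a : ℕ) ∧
      ∑ z : K, Ω (z : A) = (Nat.card K * b : ℕ) := by
  obtain ⟨n, ρ, rfl⟩ := hΩ
  have key : ∀ (Q : Subgroup A) [Fintype Q], ∑ z : Q, ρ.character (z : A) =
      (Nat.card Q * Module.finrank ℂ (Representation.invariants (ρ.comp Q.subtype)) : ℕ) := by
    intro Q _
    have h1 := Cfsg.Agent.PermutationGroups.Subdegree.classInner_one_eq_finrank
      (ρ.comp Q.subtype : Representation ℂ Q (Fin n → ℂ))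
    rw [classInner_def, inv_mul_eq_iff_eq_mul₀ card_ne_zero_complex] at h1
    push_cast
    rw [← h1]
    refine Finset.sum_congr rfl fun z _ => ?_
    rw [map_one, mul_one]
    rfl
  refine ⟨_, _, ?_, key P, key K⟩
  apply Submodule.finrank_mono
  intro v hv
  rw [Representation.mem_invariants] at hv ⊢
  intro z
  exact hv ⟨z, hKP z.2⟩

end Cfsg.Agent.H950.IMC.Gen
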